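import Groth.Agent.FinGrpdLib.Orbit
import Mathlib.RingTheory.Spectrum.Prime.FreeLocus
import Mathlib.RingTheory.Finiteness.ModuleFinitePresentation

/-!
Invariant basic opens around orbits of generic points: norms exist generically on the reduced objects.
-/

set_option autoImplicit false
set_option backward.isDefEq.respectTransparency false
universe u

open CategoryTheory CategoryTheory.Limits AlgebraicGeometry TopologicalSpace TensorProduct

noncomputable section

namespace Groth.Agent.GrpdGenericLib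

open FinGrpdLib

theorem free_of_minimal {B : Type u} [CommRing B] [IsReduced B] (M : Type u) [AddCommGroup M] [Module B M]
    (p : PrimeSpectrum B) (hp : ∀ q : PrimeSpectrum B, q.asIdeal ≤ p.asIdeal → q = p) :
    p ∈ Module.freeLocus B M := by
  let L := Localization.AtPrime p.asIdeal
  have hL : IsField L := by
    rw [IsLocalRing.isField_iff_maximalIdeal_eq]
    refine le_antisymm (fun x hx => ?_) bot_le
    have : IsNilpotent x := by
      rw [← mem_nilradical, nilradical_eq_sInf]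
      refine Submodule.mem_sInf.2 fun (Q : Ideal L) (hQ : Q.IsPrime) => ?_
      have h1 : (PrimeSpectrum.comap (algebraMap B L) ⟨Q, hQ⟩).asIdeal ≤ p.asIdeal :=
        (Ideal.comap_mono (IsLocalRing.le_maximalIdeal hQ.ne_top)).trans_eq
          (IsLocalization.AtPrime.under_maximalIdeal L p.asIdeal)
      have h2 : Q.comap (algebraMap B L) = p.asIdeal := congrArg PrimeSpectrum.asIdeal (hp _ h1)
      have h3 : Ideal.map (algebraMap B L) (Q.comap (algebraMap B L)) = Q :=
        IsLocalization.map_comap p.asIdeal.primeCompl L Q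
      rw [← h3, h2, Localization.AtPrime.map_eq_maximalIdeal]
      exact hx
    exact this.eq_zero
  letI := hL.toField
  rw [Module.mem_freeLocus]
  exact Module.Free.of_divisionRing L _

/-- Primes of a base change over a given prime and containing a given element. -/
theorem exists_prime_baseChange_iff {B₁ C B' : Type u} [CommRing B₁] [CommRing C] [CommRing B'] [Algebra B₁ C]
    [Algebra B₁ B'] (P' : PrimeSpectrum B') (g : C) :
    (∃ Q' : PrimeSpectrum (B' ⊗[B₁] C), Q'.comap (algebraMap B' (B' ⊗[B₁] C)) = P' ∧ (1 : B') ⊗ₜ g ∈ Q'.asIdeal) ↔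
      ∃ Q : PrimeSpectrum C, Q.comap (algebraMap B₁ C) = P'.comap (algebraMap B₁ B') ∧ g ∈ Q.asIdeal := by
  constructor
  · rintro ⟨Q', hQ', hg⟩
    refine ⟨PrimeSpectrum.comap (Algebra.TensorProduct.includeRight : C →ₐ[B₁] B' ⊗[B₁] C).toRingHom Q', ?_, hg⟩
    rw [← hQ', ← PrimeSpectrum.comap_comp_apply, ← PrimeSpectrum.comap_comp_apply, AlgHom.toRingHom_eq_coe,
      AlgHom.comp_algebraMap, ← IsScalarTower.algebraMap_eq]
  · rintro ⟨Q, hQ, hg⟩
    let P := Q.comap (algebraMap B₁ C)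
    let k := P.asIdeal.ResidueField
    let L := P'.asIdeal.ResidueField
    let M := Q.asIdeal.ResidueField
    letI : Algebra k L := (Ideal.ResidueField.mapₐ P.asIdeal P'.asIdeal (Algebra.ofId B₁ B')
      (congrArg PrimeSpectrum.asIdeal hQ)).toRingHom.toAlgebra
    letI : Algebra k M := (Ideal.ResidueField.mapₐ P.asIdeal Q.asIdeal (Algebra.ofId B₁ C) rfl).toRingHom.toAlgebra
    haveI : IsScalarTower B₁ k L := .of_algebraMap_eq fun b =>
      ((Ideal.ResidueField.mapₐ P.asIdeal P'.asIdeal (Algebra.ofId B₁ B') (congrArg PrimeSpectrum.asIdeal hQ)).commutes b).symm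
    haveI : IsScalarTower B₁ k M := .of_algebraMap_eq fun b =>
      ((Ideal.ResidueField.mapₐ P.asIdeal Q.asIdeal (Algebra.ofId B₁ C) rfl).commutes b).symm
    haveI : Nontrivial (L ⊗[k] M) := Algebra.TensorProduct.nontrivial_of_algebraMap_injective_of_isDomain k L M
      (algebraMap k L).injective (algebraMap k M).injective
    obtain ⟨m, hm⟩ := Ideal.exists_maximal (L ⊗[k] M)
    letI := Ideal.Quotient.field m
    let K := L ⊗[k] M ⧸ m
    let α : L →ₐ[k] K := (Ideal.Quotient.mkₐ k m).comp Algebra.TensorProduct.includeLeft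
    let β : M →ₐ[k] K := (Ideal.Quotient.mkₐ k m).comp Algebra.TensorProduct.includeRight
    let χ : B' ⊗[B₁] C →ₐ[B₁] K := Algebra.TensorProduct.lift
      ((α.restrictScalars B₁).comp (IsScalarTower.toAlgHom B₁ B' L))
      ((β.restrictScalars B₁).comp (IsScalarTower.toAlgHom B₁ C M)) fun _ _ => Commute.all _ _
    refine ⟨⟨RingHom.ker χ.toRingHom, RingHom.ker_isPrime _⟩, PrimeSpectrum.ext ?_, ?_⟩
    · rw [PrimeSpectrum.comap_asIdeal, RingHom.comap_ker]
      have e : χ.toRingHom.comp (algebraMap B' (B' ⊗[B₁] C)) = α.toRingHom.comp (algebraMap B' L) :=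
        RingHom.ext fun b => by
          show χ (b ⊗ₜ 1) = α (algebraMap B' L b)
          simp [χ]
      rw [e, RingHom.ker_comp_of_injective _ α.toRingHom.injective, Ideal.ker_algebraMap_residueField]
    · show χ (1 ⊗ₜ g) = 0
      have e : χ (1 ⊗ₜ g) = β (algebraMap C M g) := by simp [χ]
      have h0 : algebraMap C M g = 0 := RingHom.mem_ker.1 ((Ideal.ker_algebraMap_residueField Q.asIdeal).symm ▸ hg)
      rw [e, h0, map_zero]

/-- Finitely many minimal primes have a common basic open over which, after reduction, the primes below primes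
containing a given element form a principal zero set. -/
theorem exists_norm_elt_generic {B₁ C : Type u} [CommRing B₁] [CommRing C] (σ : B₁ →+* C) (h₁ : σ.Finite)
    (h₃ : σ.FinitePresentation) {ι : Type*} [Finite ι] (x : ι → PrimeSpectrum B₁)
    (hx : ∀ i (q : PrimeSpectrum B₁), q.asIdeal ≤ (x i).asIdeal → q = x i) :
    ∃ f : B₁, (∀ i, f ∉ (x i).asIdeal) ∧ ∀ g : C, ∃ N : B₁, ∀ P : PrimeSpectrum B₁, f ∉ P.asIdeal →
      (N ∈ P.asIdeal ↔ ∃ Q : PrimeSpectrum C, Q.comap σ = P ∧ g ∈ Q.asIdeal) := by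
  classical
  haveI := Fintype.ofFinite ι
  letI : Algebra B₁ C := σ.toAlgebra
  haveI : Module.Finite B₁ C := h₁
  haveI : Algebra.FinitePresentation B₁ C := h₃
  haveI : Module.FinitePresentation B₁ C := Module.FinitePresentation.of_finite_of_finitePresentation B₁ C
  let B := B₁ ⧸ nilradical B₁
  haveI : IsReduced B := by
    rw [← Ideal.isRadical_iff_quotient_reduced]
    exact (0 : Ideal B₁).radical_isRadical
  let CB := B ⊗[B₁] C
  haveI : Module.FinitePresentation B CB := inferInstance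
  have hnil : ∀ P : PrimeSpectrum B₁, nilradical B₁ ≤ P.asIdeal := fun P => nilradical_le_prime P.asIdeal
  have hsurj : ∀ P : PrimeSpectrum B₁, ∃ P' : PrimeSpectrum B, P'.comap (Ideal.Quotient.mk (nilradical B₁)) = P := by
    intro P
    have hP : P ∈ Set.range (PrimeSpectrum.comap (Ideal.Quotient.mk (nilradical B₁))) := by
      rw [range_comap_of_surjective _ _ Ideal.Quotient.mk_surjective, Ideal.mk_ker]
      exact hnil P
    exact hP
  choose xb hxb using fun i => hsurj (x i)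
  have hfree : ∀ i, xb i ∈ Module.freeLocus B CB := fun i => by
    refine free_of_minimal CB (xb i) fun q hq => ?_
    apply PrimeSpectrum.comap_injective_of_surjective _ Ideal.Quotient.mk_surjective
    rw [hxb i]
    refine hx i _ ?_
    rw [← hxb i]
    exact Ideal.comap_mono hq
  obtain ⟨J, hJ⟩ := (PrimeSpectrum.isClosed_iff_zeroLocus_ideal _).1
    (Module.isOpen_freeLocus (R := B) (M := CB)).isClosed_compl
  obtain ⟨fb, hfbJ, hfb⟩ : ∃ fb ∈ J, ∀ i, fb ∉ (xb i).asIdeal := by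
    by_contra hcon
    push Not at hcon
    rcases isEmpty_or_nonempty ι with hι | ⟨⟨i₀⟩⟩
    · obtain ⟨i, -⟩ := hcon 0 J.zero_mem
      exact hι.elim i
    · obtain ⟨i, -, hi⟩ := (Ideal.subset_union_prime (s := (Finset.univ : Finset ι)) (f := fun i => (xb i).asIdeal) i₀ i₀
        (fun i _ _ _ => (xb i).isPrime)).1 (fun a ha => by
          obtain ⟨i, hi⟩ := hcon a ha
          exact Set.mem_iUnion₂.2 ⟨i, Finset.mem_coe.2 (Finset.mem_univ i), hi⟩)
      have h1 : xb i ∈ PrimeSpectrum.zeroLocus (J : Set B) := hi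
      rw [← hJ] at h1
      exact h1 (hfree i)
  have hsub : (PrimeSpectrum.basicOpen fb : Set (PrimeSpectrum B)) ⊆ Module.freeLocus B CB := fun q hq => by
    by_contra hne
    have h2 : q ∈ PrimeSpectrum.zeroLocus (J : Set B) := by rw [← hJ]; exact hne
    exact hq (h2 hfbJ)
  haveI hproj := Module.basicOpen_subset_freeLocus_iff.1 hsub
  let B' := Localization.Away fb
  let C' := B' ⊗[B₁] C
  haveI : Module.Flat B' (B' ⊗[B] CB) := Module.Flat.of_linearEquiv
    (LocalizedModule.equivTensorProduct (Submonoid.powers fb) CB).symm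
  haveI : Module.Flat B' C' :=
    Module.Flat.of_linearEquiv (TensorProduct.AlgebraTensorModule.cancelBaseChange B₁ B B' B' C).symm
  obtain ⟨f, rfl⟩ := Ideal.Quotient.mk_surjective fb
  refine ⟨f, fun i hf => hfb i ?_, fun g => ?_⟩
  · rw [← hxb i] at hf
    exact hf
  obtain ⟨N', hN'⟩ := exists_norm_elt (algebraMap B' C') (RingHom.finite_algebraMap.2 inferInstance)
    (RingHom.flat_algebraMap_iff.2 inferInstance) (RingHom.finitePresentation_algebraMap.2 inferInstance)
    ((1 : B') ⊗ₜ[B₁] g)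
  obtain ⟨Nb, n, hN⟩ := IsLocalization.Away.surj (Ideal.Quotient.mk (nilradical B₁) f) N'
  obtain ⟨N, rfl⟩ := Ideal.Quotient.mk_surjective n
  refine ⟨N, fun P hP => ?_⟩
  obtain ⟨Pb, hPb⟩ := hsurj P
  have hfP : Ideal.Quotient.mk (nilradical B₁) f ∉ Pb.asIdeal := fun h => hP (hPb ▸ h)
  obtain ⟨P', hP'⟩ : Pb ∈ Set.range (PrimeSpectrum.comap (algebraMap B B')) := by
    rw [PrimeSpectrum.localization_away_comap_range B' (Ideal.Quotient.mk (nilradical B₁) f)]
    exact hfP
  have hN1 : N ∈ P.asIdeal ↔ N' ∈ P'.asIdeal := by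
    have hu : IsUnit (algebraMap B B' (Ideal.Quotient.mk (nilradical B₁) f) ^ Nb) :=
      (IsLocalization.Away.algebraMap_isUnit _).pow _
    rw [← hPb, ← hP']
    show algebraMap B B' (Ideal.Quotient.mk (nilradical B₁) N) ∈ P'.asIdeal ↔ _
    rw [← hN, Ideal.mul_unit_mem_iff_mem _ hu]
  rw [hN1, hN' P']
  refine (exists_prime_baseChange_iff P' g).trans ?_
  rw [show P'.comap (algebraMap B₁ B') = P by
    rw [IsScalarTower.algebraMap_eq B₁ B B', PrimeSpectrum.comap_comp_apply, hP']; exact hPb]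
  rfl

variable {A : CommRingCat.{u}} {U : Scheme.{u}} (j : U ⟶ Spec A) [IsImmersion j]
  (I : Ideal A) (hcl : IsClosed (PrimeSpectrum.zeroLocus (I : Set A) ∪ Set.range j))

include hcl in
/-- Basic opens at elements of `I` are affine and their sections come from `A_g`. -/
theorem affine_and_lift {g : A} (hg : g ∈ I) :
    IsAffineOpen (j ⁻¹ᵁ PrimeSpectrum.basicOpen g) ∧
      ∀ f : Γ(U, j ⁻¹ᵁ PrimeSpectrum.basicOpen g), ∃ h ∈ I, j ⁻¹ᵁ PrimeSpectrum.basicOpen h = U.basicOpen f := by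
  let D : (Spec A).Opens := PrimeSpectrum.basicOpen g
  have hD : IsAffineOpen D := IsAffineOpen.Spec_basicOpen g
  haveI : IsImmersion (j ∣_ D) := IsZariskiLocalAtTarget.restrict ‹_› D
  haveI : IsClosedImmersion (j ∣_ D) := by
    refine IsClosedImmersion.of_isPreimmersion _ ?_
    have e : Set.range ⇑(j ∣_ D) = D.ι ⁻¹' (PrimeSpectrum.zeroLocus (I : Set A) ∪ Set.range j) := by
      ext y
      constructor
      · rintro ⟨x, rfl⟩
        exact Or.inr ⟨_, (morphismRestrict_base_coe j D x).symm⟩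
      · intro hy
        rcases hy with hy | ⟨x, hx⟩
        · exact absurd (hy hg) y.2
        · exact ⟨⟨x, show j x ∈ D from hx ▸ y.2⟩, Subtype.ext ((morphismRestrict_base_coe j D _).trans hx)⟩
    rw [e]
    exact hcl.preimage D.ι.continuous
  haveI : IsAffine D.toScheme := hD
  obtain ⟨hUD, hsurj⟩ := IsClosedImmersion.isAffine_surjective_of_isAffine (f := j ∣_ D)
  refine ⟨hUD, fun f => ?_⟩
  obtain ⟨w, hw⟩ : ∃ w : Γ(Spec A, D), (j.app D).hom w = f := by
    rw [morphismRestrict_appTop] at hsurj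
    have key : ∀ D' : (Spec A).Opens, D' = D → Function.Surjective (j.app D').hom →
        Function.Surjective (j.app D).hom := fun D' h hs => by subst h; exact hs
    refine key _ D.ι_image_top ?_ f
    intro y
    obtain ⟨v, hv⟩ := hsurj (U.presheaf.map (eqToHom (image_morphismRestrict_preimage j D ⊤)).op y)
    exact ⟨v, (ConcreteCategory.bijective_of_isIso _).1 hv⟩
  haveI : IsLocalization.Away g Γ(Spec A, D) :=
    inferInstanceAs (IsLocalization.Away g ((Spec.structureSheaf A).presheaf.obj (.op (PrimeSpectrum.basicOpen g))))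
  obtain ⟨n, a, ha⟩ := IsLocalization.Away.surj g w
  refine ⟨a * g, I.mul_mem_left a hg, ?_⟩
  have hu : IsUnit (algebraMap A Γ(Spec A, D) g ^ n) :=
    (IsLocalization.Away.algebraMap_isUnit g).pow n
  have e1 : (Spec A).basicOpen w = PrimeSpectrum.basicOpen (a * g) := by
    have h1 : (Spec A).basicOpen (algebraMap A Γ(Spec A, D) a) = (Spec A).basicOpen w := by
      rw [← ha, Scheme.basicOpen_mul, (Spec A).basicOpen_of_isUnit hu]
      exact inf_eq_left.2 ((Spec A).basicOpen_le _)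
    rw [← h1, IsAffineOpen.algebraMap_Spec_obj, CommRingCat.hom_comp, RingHom.comp_apply, Scheme.basicOpen_res,
      AlgebraicGeometry.basicOpen_eq_of_affine, PrimeSpectrum.basicOpen_mul, inf_comm]
  rw [← hw, ← Scheme.preimage_basicOpen, e1]

variable {S : Scheme.{u}} (G : Grpd.GroupoidScheme S)

/-- Finitely many orbits of generic points have an invariant basic affine neighbourhood. -/
theorem exists_invariant_basicOpen [IsFinite G.s] [LocallyOfFinitePresentation G.s] {m : ℕ} (u : Fin m → G.U)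
    (hu : ∀ i (y : G.U), Rel G y (u i) → ∀ x : G.U, x ⤳ y → x = y) {A : CommRingCat.{u}} (j : G.U ⟶ Spec A)
    [IsImmersion j] (I : Ideal A) (hI : ∀ x : G.U, j x ∉ PrimeSpectrum.zeroLocus (I : Set A))
    (hcl : IsClosed (PrimeSpectrum.zeroLocus (I : Set A) ∪ Set.range j)) :
    ∃ h ∈ I, IsAffineOpen (j ⁻¹ᵁ PrimeSpectrum.basicOpen h) ∧ (∀ i, u i ∈ j ⁻¹ᵁ PrimeSpectrum.basicOpen h) ∧
      G.s ⁻¹ᵁ (j ⁻¹ᵁ PrimeSpectrum.basicOpen h) = G.t ⁻¹ᵁ (j ⁻¹ᵁ PrimeSpectrum.basicOpen h) := by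
  classical
  let P : Set G.U := ⋃ i, {y | Rel G y (u i)}
  have hPfin : P.Finite := Set.finite_iUnion fun i => finite_rel (u i)
  haveI : Finite ↥P := hPfin.to_subtype
  haveI := Fintype.ofFinite ↥P
  have hgen : ∀ y : ↥P, ∀ x : G.U, x ⤳ (y : G.U) → x = y := fun y => by
    obtain ⟨i, hi⟩ := Set.mem_iUnion.1 y.2
    exact hu i y.1 hi
  obtain ⟨g₁, hg₁I, hg₁⟩ : ∃ g ∈ I, ∀ y : ↥P, j y ∈ PrimeSpectrum.basicOpen g := by
    by_contra hcon
    push Not at hcon
    rcases isEmpty_or_nonempty ↥P with hι | ⟨⟨i₀⟩⟩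
    · obtain ⟨i, -⟩ := hcon 0 I.zero_mem
      exact hι.elim i
    · let Q : ↥P → PrimeSpectrum A := fun y => j y
      obtain ⟨i, -, hi⟩ := (Ideal.subset_union_prime (s := (Finset.univ : Finset ↥P)) (f := fun y => (Q y).asIdeal)
        i₀ i₀ (fun i _ _ _ => (Q i).isPrime)).1 (fun a ha => by
          obtain ⟨i, hi⟩ := hcon a ha
          exact Set.mem_iUnion₂.2 ⟨i, Finset.mem_coe.2 (Finset.mem_univ i), not_not.1 hi⟩)
      exact hI i hi
  let D₁ : G.U.Opens := j ⁻¹ᵁ PrimeSpectrum.basicOpen g₁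
  obtain ⟨hD₁, hlift₁⟩ := affine_and_lift j I hcl hg₁I
  have hR₁ : IsAffineOpen (G.s ⁻¹ᵁ D₁) := hD₁.preimage G.s
  let σ := (G.s.appLE D₁ (G.s ⁻¹ᵁ D₁) le_rfl).hom
  obtain ⟨f, hf, hN⟩ := exists_norm_elt_generic σ
    (by simp only [σ, Scheme.Hom.appLE_eq_app]; exact G.s.finite_app D₁ hD₁)
    (HasRingHomProperty.appLE (P := @LocallyOfFinitePresentation) G.s inferInstance ⟨D₁, hD₁⟩ ⟨_, hR₁⟩ le_rfl)
    (fun y : ↥P => hD₁.primeIdealOf ⟨y, hg₁ y⟩) (fun y q hq => by
      have h1 : q ⤳ hD₁.primeIdealOf ⟨y, hg₁ y⟩ := (PrimeSpectrum.le_iff_specializes _ _).1 hq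
      have h2 := h1.map hD₁.fromSpec.continuous
      rw [hD₁.fromSpec_primeIdealOf] at h2
      refine hD₁.fromSpec.isOpenEmbedding.injective ?_
      rw [hD₁.fromSpec_primeIdealOf]
      exact hgen y _ h2)
  obtain ⟨g, hgI, hg⟩ := hlift₁ f
  let E := G.U.basicOpen f
  have hPE : ∀ y : ↥P, (y : G.U) ∈ E := fun y => (mem_basicOpen_iff hD₁ (hg₁ y) f).2 (hf y)
  let γ₀ : Γ(G.U, ⊤) := j.appTop ((Scheme.ΓSpecIso A).inv g)
  have hγ₀ : G.U.basicOpen γ₀ = E := by
    have h := Scheme.preimage_basicOpen_top j ((Scheme.ΓSpecIso A).inv g)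
    rw [AlgebraicGeometry.basicOpen_eq_of_affine] at h
    exact h.symm.trans hg
  let γ : Γ(G.R, G.s ⁻¹ᵁ D₁) := G.R.presheaf.map (homOfLE le_top).op (G.t.appTop γ₀)
  have hγ : ∀ r, r ∈ G.R.basicOpen γ ↔ r ∈ G.s ⁻¹ᵁ D₁ ∧ G.t r ∈ E := fun r => by
    simp only [γ, Scheme.basicOpen_res, ← Scheme.preimage_basicOpen_top, hγ₀]
    rfl
  obtain ⟨N, hN⟩ := hN γ
  obtain ⟨W, hW⟩ := exists_interior G E
  have hWN : W = G.U.basicOpen (f * N) := by
    refine Opens.ext (Set.ext fun x => ?_)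
    change x ∈ W ↔ x ∈ G.U.basicOpen (f * N)
    rw [hW, Scheme.basicOpen_mul]
    constructor
    · intro h
      have hxE : x ∈ E := h x (Rel.refl G x)
      have hxD : x ∈ D₁ := G.U.basicOpen_le f hxE
      refine ⟨hxE, ?_⟩
      by_contra hx
      rw [SetLike.mem_coe, mem_basicOpen_iff hD₁ hxD] at hx
      obtain ⟨Q, hQ, hgQ⟩ := (hN (hD₁.primeIdealOf ⟨x, hxD⟩) ((mem_basicOpen_iff hD₁ hxD f).1 hxE)).1 (not_not.1 hx)
      let r := hR₁.fromSpec Q
      have hr : r ∈ G.s ⁻¹ᵁ D₁ := by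
        have : r ∈ Set.range hR₁.fromSpec := ⟨Q, rfl⟩
        rwa [hR₁.range_fromSpec] at this
      have hrs : G.s r = x := by
        have e := hD₁.SpecMap_appLE_fromSpec G.s hR₁ (le_refl (G.s ⁻¹ᵁ D₁))
        have e' := congrArg (fun k => k Q) e
        simp only [Scheme.Hom.comp_apply] at e'
        exact e'.symm.trans ((congrArg hD₁.fromSpec hQ).trans (hD₁.fromSpec_primeIdealOf ⟨x, hxD⟩))
      have hrg : r ∈ G.R.basicOpen γ := (hγ r).2 ⟨hr, h _ ⟨r, rfl, hrs⟩⟩
      rw [← Scheme.Hom.mem_preimage, hR₁.fromSpec_preimage_basicOpen] at hrg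
      exact hrg hgQ
    · rintro ⟨hxE, hx⟩ y ⟨r, rfl, rfl⟩
      have hr : r ∈ G.s ⁻¹ᵁ D₁ := G.U.basicOpen_le f hxE
      by_contra hy
      have hQ : γ ∈ (hR₁.primeIdealOf ⟨r, hr⟩).asIdeal := by
        by_contra hgQ
        refine hy ((hγ r).1 ?_).2
        rw [mem_basicOpen_iff hR₁ hr]
        exact hgQ
      have hP := (hN (hD₁.primeIdealOf ⟨G.s r, hr⟩) ((mem_basicOpen_iff hD₁ hr f).1 hxE)).2
        ⟨_, IsAffineOpen.comap_primeIdealOf_appLE (f := G.s) D₁ hD₁ (G.s ⁻¹ᵁ D₁) hR₁ le_rfl hr, hQ⟩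
      rw [SetLike.mem_coe, mem_basicOpen_iff hD₁ hr] at hx
      exact hx hP
  obtain ⟨h, hhI, hh⟩ := hlift₁ (f * N)
  have hhW : j ⁻¹ᵁ PrimeSpectrum.basicOpen h = W := hh.trans hWN.symm
  refine ⟨h, hhI, hhW ▸ (affine_and_lift j I hcl hhI).1, fun i => ?_, ?_⟩
  · rw [hhW, hW]
    exact fun y hy => hPE ⟨y, Set.mem_iUnion.2 ⟨i, hy⟩⟩
  · rw [hhW, invariant_iff]
    exact fun {x y} hxy hx => (hW y).2 fun z hz => (hW x).1 hx z (hz.trans hxy.symm)

end Groth.Agent.GrpdGenericLib
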